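import Cfsg.Prelude.Def_Balance
import Cfsg.Agent.Lib.Solvable.Coprime
import Cfsg.Agent.Lib.Solvable.Basic

/-!
Elementary abelian groups acting coprimely, and the family of a solvable signalizer functor.
-/

set_option autoImplicit false
set_option linter.style.haveILetI false

namespace Cfsg.Agent.Signalizer

open Subgroup

variable {G : Type*} [Group G] {p : ℕ}

theorem ea_comm {A : Subgroup G} (hA : IsElementaryAbelian p A) {x y : G} (hx : x ∈ A) (hy : y ∈ A) :
    x * y = y * x :=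
  congrArg Subtype.val (hA.1.is_comm.comm ⟨x, hx⟩ ⟨y, hy⟩)

theorem ea_mono {A B : Subgroup G} (hA : IsElementaryAbelian p A) (h : B ≤ A) :
    IsElementaryAbelian p B :=
  ⟨⟨⟨fun x y => Subtype.ext (ea_comm hA (h x.2) (h y.2))⟩⟩, fun a ha => hA.2 a (h ha)⟩

theorem ea_isPGroup {A : Subgroup G} (hA : IsElementaryAbelian p A) : IsPGroup p A :=
  fun a => ⟨1, Subtype.ext (by simpa using hA.2 a a.2)⟩

theorem ea_le_centralizer {A B : Subgroup G} (hA : IsElementaryAbelian p A) (h : B ≤ A) :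
    A ≤ centralizer (B : Set G) :=
  fun _ ha => mem_centralizer_iff.2 fun _ hb => ea_comm hA (h hb) ha

theorem ea_le_centralizer_singleton {A : Subgroup G} (hA : IsElementaryAbelian p A) {a : G}
    (ha : a ∈ A) : A ≤ centralizer ({a} : Set G) :=
  fun _ hx => mem_centralizer_singleton_iff.2 (ea_comm hA hx ha)

theorem le_normalizer_of_le_centralizer {A : Subgroup G} {S : Set G} (h : A ≤ centralizer S) :
    A ≤ normalizer ((centralizer S : Subgroup G) : Set G) :=
  h.trans le_normalizer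

theorem ea_le_normalizer_centralizer {A B : Subgroup G} (hA : IsElementaryAbelian p A) (h : B ≤ A) :
    A ≤ normalizer ((centralizer (B : Set G) : Subgroup G) : Set G) :=
  le_normalizer_of_le_centralizer (ea_le_centralizer hA h)

theorem le_normalizer_inf {A X Y : Subgroup G} (hX : A ≤ normalizer (X : Set G))
    (hY : A ≤ normalizer (Y : Set G)) : A ≤ normalizer ((X ⊓ Y : Subgroup G) : Set G) :=
  (le_inf hX hY).trans inf_normalizer_le_normalizer_inf

theorem le_normalizer_iff_conj_mem [Finite G] {A X : Subgroup G} :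
    A ≤ normalizer (X : Set G) ↔ ∀ b ∈ A, ∀ u ∈ X, b * u * b⁻¹ ∈ X :=
  ⟨fun h b hb u hu => (mem_normalizer_iff.1 (h hb) u).1 hu,
    fun h b hb => mem_normalizer_fintype fun u hu => h b hb u hu⟩

variable [hp : Fact p.Prime]

theorem ea_orderOf {A : Subgroup G} (hA : IsElementaryAbelian p A) {a : G} (ha : a ∈ A)
    (h1 : a ≠ 1) : orderOf a = p :=
  orderOf_eq_prime (hA.2 a ha) h1

theorem coprime_card [Finite G] {A X : Subgroup G} (hA : IsPGroup p A) (hX : ¬ p ∣ Nat.card X) :
    (Nat.card A).Coprime (Nat.card X) := by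
  obtain ⟨n, hn⟩ := hA.exists_card_eq
  rw [hn]
  exact Nat.Coprime.pow_left n (hp.out.coprime_iff_not_dvd.2 hX)

theorem ea_not_isCyclic [Finite G] {A : Subgroup G} (hA : IsElementaryAbelian p A)
    (h2 : p ^ 2 ≤ Nat.card A) : ¬ IsCyclic A := by
  intro hc
  obtain ⟨g, hg⟩ := hc.exists_generator
  have h1 : Nat.card A ≤ p := by
    rw [← orderOf_eq_card_of_forall_mem_zpowers hg]
    exact Nat.le_of_dvd hp.out.pos (orderOf_dvd_of_pow_eq_one (Subtype.ext (by simpa using hA.2 g g.2)))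
  have h3 : p ^ 1 < p ^ 2 := Nat.pow_lt_pow_right hp.out.one_lt (by omega)
  rw [pow_one] at h3
  omega

theorem ea_exists_complement [Finite G] {B : Subgroup G} (hB : IsElementaryAbelian p B) {b : G}
    (hb : b ∈ B) (hb1 : b ≠ 1) :
    ∃ M ≤ B, b ∉ M ∧ Nat.card M * p = Nat.card B ∧ M ⊔ zpowers b = B := by
  obtain ⟨M, -, ⟨hMB, hbM⟩, hmax⟩ := Finite.exists_le_maximal
    (p := fun M : Subgroup G => M ≤ B ∧ b ∉ M) (a := ⊥) ⟨bot_le, by simpa using hb1⟩
  have hle : ∀ {S T : Subgroup G}, S ≤ B → T ≤ B → T ≤ normalizer (S : Set G) := fun hS hT =>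
    (hT.trans (ea_le_centralizer hB hS)).trans (centralizer_le_normalizer _)
  have hzB : zpowers b ≤ B := zpowers_le.2 hb
  have htop : M ⊔ zpowers b = B := by
    refine le_antisymm (sup_le hMB hzB) fun x hx => Classical.byContradiction fun hxM => ?_
    have hxB : zpowers x ≤ B := zpowers_le.2 hx
    have hlt : b ∈ M ⊔ zpowers x := Classical.byContradiction fun hnb => hxM <| by
      have h := hmax (y := M ⊔ zpowers x) ⟨sup_le hMB hxB, hnb⟩ le_sup_left
      exact mem_sup_left (h (mem_sup_right (mem_zpowers x)))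
    obtain ⟨m, hm, z, hz, hmz⟩ := (SolvBasic.mem_sup_iff_of_le_normalizer (hle hMB hxB)).1 hlt
    obtain ⟨i, rfl⟩ := mem_zpowers_iff.1 hz
    have hi : ¬ (p : ℤ) ∣ i := by
      intro ⟨k, hk⟩
      rw [hk, zpow_mul, zpow_natCast, hB.2 x hx, one_zpow, mul_one] at hmz
      exact hbM (hmz ▸ hm)
    obtain ⟨u, v, huv⟩ : IsCoprime i (p : ℤ) :=
      ((Nat.prime_iff_prime_int.1 hp.out).coprime_iff_not_dvd.2 hi).symm
    have hxi : x ^ i ∈ M ⊔ zpowers b := by
      rw [show x ^ i = m⁻¹ * b by rw [hmz]; group]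
      exact mul_mem (mem_sup_left (inv_mem hm)) (mem_sup_right (mem_zpowers b))
    apply hxM
    have : x = (x ^ i) ^ u := by
      rw [← zpow_mul, show i * u = 1 - v * (p : ℤ) by linarith, zpow_sub, zpow_one, mul_comm v,
        zpow_mul, zpow_natCast, hB.2 x hx, one_zpow, inv_one, mul_one]
    rw [this]
    exact zpow_mem hxi u
  refine ⟨M, hMB, hbM, ?_, htop⟩
  conv_rhs => rw [← htop]
  rw [SolvBasic.card_sup_of_inf_eq_bot (hle hMB hzB), Nat.card_zpowers, ea_orderOf hB hb hb1]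
  rw [eq_bot_iff]
  intro z hz
  by_contra hz1
  apply hbM
  rw [mem_bot] at hz1
  obtain ⟨i, rfl⟩ := mem_zpowers_iff.1 hz.2
  have hord := ea_orderOf hB (zpow_mem hb i) hz1
  have : zpowers (b ^ i) = zpowers b := by
    refine eq_of_le_of_card_ge (zpowers_le.2 hz.2) ?_
    rw [Nat.card_zpowers, Nat.card_zpowers, hord, ea_orderOf hB hb hb1]
  exact zpowers_le.2 hz.1 (this ▸ mem_zpowers b)

theorem relIndex_eq_prime_iff [Finite G] {D B : Subgroup G} (h : D ≤ B) :
    D.relIndex B = p ↔ Nat.card D * p = Nat.card B := by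
  have h1 : Nat.card D * D.relIndex B = Nat.card B := by
    rw [← relIndex_bot_left, ← relIndex_bot_left, relIndex_mul_relIndex _ _ _ bot_le h]
  constructor
  · intro e; rw [e] at h1; exact h1
  · intro e; exact Nat.eq_of_mul_eq_mul_left Nat.card_pos (h1.trans e.symm)

variable [Finite G]

theorem le_of_centralizer_le {B X Y : Subgroup G} (hB : IsElementaryAbelian p B)
    (h2 : p ^ 2 ≤ Nat.card B) (hBX : B ≤ normalizer (X : Set G)) (hX : ¬ p ∣ Nat.card X)
    (h : ∀ b ∈ B, b ≠ 1 → X ⊓ centralizer {b} ≤ Y) : X ≤ Y := by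
  haveI := hB.1
  rw [← CoprimeAct.generated_by_centralizers (A := B) (K := X) (ea_not_isCyclic hB h2) hBX
    (coprime_card (ea_isPGroup hB) hX)]
  exact iSup₂_le fun b hb => h b hb.1 hb.2

/-- Generation by the centralisers of the hyperplanes. -/
theorem le_of_hyperplane_le {B X Y : Subgroup G} (hB : IsElementaryAbelian p B)
    (h2 : p ^ 2 ≤ Nat.card B) (hBX : B ≤ normalizer (X : Set G)) (hX : ¬ p ∣ Nat.card X)
    (h : ∀ D ≤ B, Nat.card D * p = Nat.card B → X ⊓ centralizer (D : Set G) ≤ Y) : X ≤ Y := by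
  induction hn : Nat.card B using Nat.strong_induction_on generalizing B X with
  | _ n ih =>
    refine le_of_centralizer_le hB h2 hBX hX fun b hb hb1 => ?_
    obtain ⟨M, hMB, hbM, hcard, htop⟩ := ea_exists_complement hB hb hb1
    have hp2 := hp.out.two_le
    rcases lt_or_ge (Nat.card M) (p ^ 2) with hlt | hge
    · -- B has order p ^ 2
      refine le_trans (le_of_eq ?_) (h (zpowers b) (zpowers_le.2 hb) ?_)
      · congr 1
        refine le_antisymm (fun x hx => ?_) (centralizer_le (by simp))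
        refine mem_centralizer_iff.2 fun y hy => ?_
        obtain ⟨i, rfl⟩ := mem_zpowers_iff.1 hy
        exact ((Commute.zpow_left (show Commute b x from (mem_centralizer_iff.1 hx b rfl)) i)).eq
      · obtain ⟨k, hk⟩ := (ea_isPGroup (ea_mono hB hMB)).exists_card_eq
        rw [hk] at hlt hcard
        have hk2 : k < 2 := (Nat.pow_lt_pow_iff_right hp.out.one_lt).1 hlt
        have hk1 : k ≠ 0 := by
          rintro rfl
          rw [pow_zero, one_mul] at hcard
          rw [← hcard, pow_two] at h2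
          have : p * 1 < p * p := by nlinarith
          omega
        rw [Nat.card_zpowers, ea_orderOf hB hb hb1, ← hcard, show k = 1 by omega, pow_one]
    · have hlt : Nat.card M < n := by
        rw [← hn, ← hcard]
        exact lt_mul_of_one_lt_right Nat.card_pos hp.out.one_lt
      have hXb : ¬ p ∣ Nat.card ↥(X ⊓ centralizer {b}) :=
        fun hd => hX (hd.trans (card_dvd_of_le inf_le_left))
      refine ih _ hlt (X := X ⊓ centralizer {b}) (ea_mono hB hMB) hge (le_normalizer_inf (hMB.trans hBX)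
        (le_normalizer_of_le_centralizer (hMB.trans (ea_le_centralizer_singleton hB hb)))) hXb
        (fun D hDM hD => ?_) rfl
      have hDb : D ⊔ zpowers b ≤ B := sup_le (hDM.trans hMB) (zpowers_le.2 hb)
      refine le_trans ?_ (h (D ⊔ zpowers b) hDb ?_)
      · intro x hx
        refine ⟨hx.1.1, (?_ : D ⊔ zpowers b ≤ centralizer ({x} : Set G)) |> fun hc => mem_centralizer_iff.2
          fun y hy => (mem_centralizer_singleton_iff.1 (hc hy))⟩
        exact sup_le (fun y hy => mem_centralizer_singleton_iff.2 (mem_centralizer_iff.1 hx.2 y hy))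
          (zpowers_le.2 (mem_centralizer_singleton_iff.2 (mem_centralizer_iff.1 hx.1.2 b rfl)))
      · rw [SolvBasic.card_sup_of_inf_eq_bot ((zpowers_le.2 hb).trans
          ((ea_le_centralizer hB (hDM.trans hMB)).trans (centralizer_le_normalizer _))) ?_,
          Nat.card_zpowers, ea_orderOf hB hb hb1, hD, hcard]
        rw [eq_bot_iff]
        intro z hz
        rw [mem_bot]
        by_contra hz1
        apply hbM
        have hord := ea_orderOf hB (hDb (mem_sup_left hz.1)) hz1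
        have : zpowers z = zpowers b := by
          refine eq_of_le_of_card_ge (zpowers_le.2 hz.2) ?_
          rw [Nat.card_zpowers, Nat.card_zpowers, hord, ea_orderOf hB hb hb1]
        exact hDM (zpowers_le.2 hz.1 (this ▸ mem_zpowers b))

/-! ### The family of a signalizer functor -/

variable {A : Subgroup G} {θ : G → Subgroup G}

omit hp in
theorem functor_normalizer (hθ : IsSignalizerFunctor p A θ) {a : G} (ha : a ∈ A) (ha1 : a ≠ 1) :
    A ≤ normalizer (θ a : Set G) :=
  le_normalizer_iff_conj_mem.2 fun b hb x hx => hθ.2.2.1 a ha ha1 b hb x hx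

omit hp in
theorem functor_mem_family (hθ : IsSolvableSignalizerFunctor p A θ) {a : G} (ha : a ∈ A)
    (ha1 : a ≠ 1) : θ a ∈ signalizerFamily p A θ :=
  ⟨hθ.2 a ha ha1, hθ.1.2.1 a ha ha1, hθ.1.2.2.1 a ha ha1, hθ.1.2.2.2 a ha ha1⟩

omit hp in
theorem family_normalizer {U : Subgroup G} (hU : U ∈ signalizerFamily p A θ) :
    A ≤ normalizer (U : Set G) :=
  le_normalizer_iff_conj_mem.2 hU.2.2.1

omit hp in
theorem family_mono {U V : Subgroup G} (hU : U ∈ signalizerFamily p A θ) (h : V ≤ U)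
    (hA : A ≤ normalizer (V : Set G)) : V ∈ signalizerFamily p A θ :=
  ⟨haveI := hU.1; Group.isSolvable_of_isSolvable_injective (inclusion_injective h),
    fun hd => hU.2.1 (hd.trans (card_dvd_of_le h)),
    le_normalizer_iff_conj_mem.1 hA,
    fun a ha ha1 => (inf_le_inf_right _ h).trans (hU.2.2.2 a ha ha1)⟩

/-- A fixed point of a product is a product of fixed points. -/
theorem centralizer_sup_le {N T : Subgroup G} {b : G} (hTN : T ≤ normalizer (N : Set G))
    (hbN : b ∈ normalizer (N : Set G)) (hbT : b ∈ normalizer (T : Set G))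
    (hb : IsPGroup p ↥(zpowers b)) (hT : ¬ p ∣ Nat.card T) :
    (N ⊔ T) ⊓ centralizer {b} ≤ (N ⊓ centralizer {b}) ⊔ (T ⊓ centralizer {b}) := by
  rintro y ⟨hy, hyb⟩
  obtain ⟨n, hn, t, ht, rfl⟩ := (SolvBasic.mem_sup_iff_of_le_normalizer hTN).1 hy
  have hyb' : b * (n * t) = (n * t) * b := (mem_centralizer_iff.1 hyb b rfl)
  have hfix : ∀ a ∈ zpowers b, a * t * a⁻¹ * t⁻¹ ∈ N ⊓ T := by
    intro a ha
    have haN : a ∈ normalizer (N : Set G) := zpowers_le.2 hbN ha
    have haT : a ∈ normalizer (T : Set G) := zpowers_le.2 hbT ha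
    have hay : a * (n * t) = (n * t) * a := by
      obtain ⟨i, rfl⟩ := mem_zpowers_iff.1 ha
      exact (Commute.zpow_left (show Commute b (n * t) from hyb') i).eq
    refine ⟨?_, T.mul_mem ((mem_normalizer_iff.1 haT t).1 ht) (T.inv_mem ht)⟩
    have h1 : a * t * a⁻¹ * t⁻¹ = (a * n⁻¹ * a⁻¹) * n := by
      calc a * t * a⁻¹ * t⁻¹ = a * n⁻¹ * (n * t) * a⁻¹ * t⁻¹ := by group
        _ = a * n⁻¹ * a⁻¹ * (a * (n * t)) * a⁻¹ * t⁻¹ := by group
        _ = a * n⁻¹ * a⁻¹ * ((n * t) * a) * a⁻¹ * t⁻¹ := by rw [hay]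
        _ = a * n⁻¹ * a⁻¹ * n := by group
    rw [h1]
    exact mul_mem ((mem_normalizer_iff.1 haN _).1 (inv_mem hn)) hn
  obtain ⟨c, hc, htc⟩ := CoprimeAct.exists_mem_centralizer (A := zpowers b) (K := T)
    (zpowers_le.2 hbT) (coprime_card hb hT)
    (Or.inl (Group.isSolvable_of_comm fun x y => mul_comm' x y)) (N := N ⊓ T) inf_le_right
    ((le_inf hTN le_normalizer).trans inf_normalizer_le_normalizer_inf)
    (le_normalizer_inf (zpowers_le.2 hbN) (zpowers_le.2 hbT)) ht hfix
  have hcb : c ∈ centralizer ({b} : Set G) := mem_centralizer_iff.2 fun x hx =>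
    mem_centralizer_iff.1 hc.2 x (Set.mem_singleton_iff.1 hx ▸ mem_zpowers b)
  have hn' : n * t * c⁻¹ ∈ N ⊓ centralizer {b} := by
    refine ⟨?_, (centralizer {b}).mul_mem hyb ((centralizer {b}).inv_mem hcb)⟩
    have h2 : n * t * c⁻¹ = n * (t * (t⁻¹ * c)⁻¹ * t⁻¹) := by group
    rw [h2]
    exact mul_mem hn ((mem_normalizer_iff.1 (hTN ht) _).1 (inv_mem htc.1))
  rw [show n * t = n * t * c⁻¹ * c by group]
  exact mul_mem (mem_sup_left hn') (mem_sup_right ⟨hc.1, hcb⟩)

theorem sup_mem_family (hA : IsElementaryAbelian p A) {X Y : Subgroup G}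
    (hX : X ∈ signalizerFamily p A θ) (hY : Y ∈ signalizerFamily p A θ)
    (hn : Y ≤ normalizer (X : Set G)) : X ⊔ Y ∈ signalizerFamily p A θ := by
  refine ⟨?_, ?_, ?_, fun a ha ha1 => ?_⟩
  · haveI := hX.1
    haveI := hY.1
    haveI hXn : (X.subgroupOf (X ⊔ Y)).Normal :=
      normal_subgroupOf_of_le_normalizer (sup_le le_normalizer hn)
    let f : ↥Y →* ↥(X ⊔ Y) ⧸ X.subgroupOf (X ⊔ Y) :=
      (QuotientGroup.mk' _).comp (inclusion le_sup_right)
    have hf : Function.Surjective f := by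
      intro z
      obtain ⟨⟨w, hw⟩, rfl⟩ := QuotientGroup.mk'_surjective _ z
      obtain ⟨x, hx, y, hy, rfl⟩ := (SolvBasic.mem_sup_iff_of_le_normalizer hn).1 hw
      refine ⟨⟨y, hy⟩, ?_⟩
      show QuotientGroup.mk' _ _ = QuotientGroup.mk' _ _
      rw [QuotientGroup.mk'_eq_mk']
      refine ⟨⟨y⁻¹ * x * y, mem_sup_left (X.mul_mem ?_ X.one_mem |> (mul_one (y⁻¹ * x * y) ▸ ·))⟩, ?_, ?_⟩
      · exact (mem_normalizer_iff''.1 (hn hy) x).1 hx
      · show y⁻¹ * x * y ∈ X
        exact (mem_normalizer_iff''.1 (hn hy) x).1 hx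
      · exact Subtype.ext (by show y * (y⁻¹ * x * y) = x * y; group)
    haveI : Group.IsSolvable (↥(X ⊔ Y) ⧸ X.subgroupOf (X ⊔ Y)) :=
      Group.isSolvable_of_surjective hf
    haveI : Group.IsSolvable ↥(X.subgroupOf (X ⊔ Y)) :=
      Group.isSolvable_of_isSolvable_injective (f := (subgroupOfEquivOfLe (le_sup_left : X ≤ X ⊔ Y)).toMonoidHom)
        (subgroupOfEquivOfLe (le_sup_left : X ≤ X ⊔ Y)).injective
    exact Group.isSolvable_of_ker_le_range (X.subgroupOf (X ⊔ Y)).subtype
      (QuotientGroup.mk' (X.subgroupOf (X ⊔ Y))) (by rw [QuotientGroup.ker_mk', range_subtype])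
  · intro hd
    have h := SolvBasic.card_sup_mul_card_inf hn
    rcases (hp.out.dvd_mul).1 (h ▸ dvd_mul_of_dvd_left hd _) with h1 | h1
    · exact hX.2.1 h1
    · exact hY.2.1 h1
  · exact le_normalizer_iff_conj_mem.1 ((le_inf (family_normalizer hX) (family_normalizer hY)).trans
      fun g hg => mem_normalizer_iff_map_conj_eq.2 (by
        rw [Subgroup.map_sup, mem_normalizer_iff_map_conj_eq.1 hg.1,
          mem_normalizer_iff_map_conj_eq.1 hg.2]))
  · refine (centralizer_sup_le hn (family_normalizer hX ha) (family_normalizer hY ha)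
      (ea_isPGroup (ea_mono hA (zpowers_le.2 ha))) hY.2.1).trans (sup_le ?_ ?_)
    · exact hX.2.2.2 a ha ha1
    · exact hY.2.2.2 a ha ha1

theorem signalizerInf_le {B : Subgroup G} {b : G} (hb : b ∈ B) (hb1 : b ≠ 1) :
    signalizerInf B θ ≤ θ b :=
  iInf_le (fun a : {a : G // a ∈ B ∧ a ≠ 1} => θ (a : G)) ⟨b, hb, hb1⟩

omit hp in
theorem signalizerInf_anti {B C : Subgroup G} (h : B ≤ C) :
    signalizerInf C θ ≤ signalizerInf B θ :=
  le_iInf fun a => iInf_le (fun c : {c : G // c ∈ C ∧ c ≠ 1} => θ (c : G)) ⟨a.1, h a.2.1, a.2.2⟩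

omit hp in
theorem signalizerInf_le_centralizer (hθ : IsSignalizerFunctor p A θ) {B : Subgroup G} (hB : B ≤ A) :
    signalizerInf B θ ≤ centralizer (B : Set G) := fun x hx =>
  mem_centralizer_iff.2 fun b hb => by
    rcases eq_or_ne b 1 with rfl | hb1
    · simp
    · have hxb : x ∈ θ b := (iInf_le (fun a : {a : G // a ∈ B ∧ a ≠ 1} => θ (a : G)) ⟨b, hb, hb1⟩) hx
      exact mem_centralizer_iff.1 (hθ.1 b (hB hb) hb1 hxb) b rfl

omit hp in
theorem family_inf_centralizer_le {U B : Subgroup G} (hU : U ∈ signalizerFamily p A θ) (hB : B ≤ A) :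
    U ⊓ centralizer (B : Set G) ≤ signalizerInf B θ :=
  le_iInf fun b => le_trans (inf_le_inf_left _ (centralizer_le (by simpa using b.2.1)))
    (hU.2.2.2 _ (hB b.2.1) b.2.2)

omit hp in
theorem signalizerInf_mem_family (hθ : IsSolvableSignalizerFunctor p A θ) (hA : IsMulCommutative A)
    {B : Subgroup G} (hB : B ≤ A) (hB1 : B ≠ ⊥) : signalizerInf B θ ∈ signalizerFamily p A θ := by
  haveI := (nontrivial_iff_ne_bot B).2 hB1
  obtain ⟨⟨b, hb⟩, hb1⟩ := exists_ne (1 : B)
  have hb1' : b ≠ 1 := fun e => hb1 (Subtype.ext e)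
  refine family_mono (functor_mem_family hθ (hB hb) hb1')
    (iInf_le (fun a : {a : G // a ∈ B ∧ a ≠ 1} => θ (a : G)) ⟨b, hb, hb1'⟩) ?_
  refine le_normalizer_iff_conj_mem.2 fun a ha u hu => ?_
  rw [signalizerInf, mem_iInf] at hu ⊢
  exact fun c => hθ.1.2.2.1 _ (hB c.2.1) c.2.2 a ha u (hu c)

end Cfsg.Agent.Signalizer
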