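import Cfsg.Agent.Lib.Signalizer.Basic
import Mathlib.GroupTheory.Nilpotent

/-!
The transitivity theorem for the maximal `q`-members of the family of a solvable signalizer functor.
-/

set_option autoImplicit false
set_option linter.style.haveILetI false

namespace Cfsg.Agent.Signalizer

open Subgroup

variable {G : Type*} [Group G] [Finite G] {p : ℕ} [hp : Fact p.Prime]
variable {A : Subgroup G} {θ : G → Subgroup G}

theorem exists_card_sq_not_le {A0 N D : Subgroup G} (hA : IsElementaryAbelian p A0)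
    (h3 : Nat.card A0 = p ^ 3) (hAN : A0 ≤ normalizer (N : Set G)) (hN : ¬ p ∣ Nat.card N)
    (hnd : ¬ N ≤ D) :
    ∃ B ≤ A0, Nat.card B = p ^ 2 ∧ ¬ N ⊓ centralizer (B : Set G) ≤ D := by
  by_contra hno
  apply hnd
  refine le_of_hyperplane_le hA (h3 ▸ Nat.pow_le_pow_right hp.out.pos (by norm_num)) hAN hN
    fun B hB hcard => ?_
  by_contra hB'
  refine hno ⟨B, hB, Nat.eq_of_mul_eq_mul_right hp.out.pos ?_, hB'⟩
  rw [hcard, h3]; ring

/-- Two subgroups of order `p ^ 2` of a group of order `p ^ 3` meet nontrivially. -/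
theorem exists_mem_inf_ne_one {A0 B1 B2 : Subgroup G} (hA : IsElementaryAbelian p A0)
    (h3 : Nat.card A0 = p ^ 3) (h1 : B1 ≤ A0) (h2 : B2 ≤ A0) (c1 : Nat.card B1 = p ^ 2)
    (c2 : Nat.card B2 = p ^ 2) : ∃ a, a ∈ B1 ∧ a ∈ B2 ∧ a ≠ 1 := by
  by_contra hno
  have hbot : B1 ⊓ B2 = ⊥ := by
    rw [eq_bot_iff]
    intro x hx
    rw [mem_bot]
    by_contra hx1
    exact hno ⟨x, hx.1, hx.2, hx1⟩
  have hn : B2 ≤ normalizer (B1 : Set G) :=
    (h2.trans (ea_le_centralizer hA h1)).trans (centralizer_le_normalizer _)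
  have h := SolvBasic.card_sup_of_inf_eq_bot hn hbot
  have hle := card_le_of_le (sup_le h1 h2)
  rw [h, c1, c2, h3, ← pow_add] at hle
  exact absurd ((Nat.pow_le_pow_iff_right hp.out.one_lt).1 hle) (by norm_num)

theorem exists_subgroup_card_cube (hA : IsElementaryAbelian p A) (h3 : p ^ 3 ≤ Nat.card A) :
    ∃ A0 ≤ A, Nat.card A0 = p ^ 3 := by
  obtain ⟨n, hn⟩ := (ea_isPGroup hA).exists_card_eq
  rw [hn] at h3
  obtain ⟨K, hK⟩ := Sylow.exists_subgroup_card_pow_prime (G := A) p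
    (hn ▸ Nat.pow_dvd_pow p ((Nat.pow_le_pow_iff_right hp.out.one_lt).1 h3) : p ^ 3 ∣ Nat.card A)
  exact ⟨K.map A.subtype, map_subtype_le _, by rw [card_map_of_injective A.subtype_injective, hK]⟩

theorem normalizer_inf_not_le {q : ℕ} [Fact q.Prime] {Q D : Subgroup G} (hQ : IsPGroup q Q)
    (hD : D ≤ Q) (hne : D ≠ Q) : ¬ normalizer (D : Set G) ⊓ Q ≤ D := by
  intro h
  haveI : Group.IsNilpotent Q := hQ.isNilpotent
  have hlt : D.subgroupOf Q < ⊤ :=
    lt_top_iff_ne_top.2 fun e => hne (le_antisymm hD (subgroupOf_eq_top.1 e))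
  obtain ⟨x, hx, hxD⟩ :=
    SetLike.exists_of_lt (Group.normalizerCondition_of_isNilpotent (D.subgroupOf Q) hlt)
  refine hxD (h ⟨?_, x.2⟩)
  refine mem_normalizer_fintype fun d hd => ?_
  exact ((mem_normalizer_iff.1 hx ⟨d, hD hd⟩).1 hd :)

/-- A common centralised element for two `q`-subgroups meeting in `D`. -/
theorem exists_common_centralized (hA : IsElementaryAbelian p A) (h3 : p ^ 3 ≤ Nat.card A)
    {q : ℕ} [Fact q.Prime] (hqp : q ≠ p) {Q₁ Q₂ : Subgroup G} (h₁ : IsPGroup q Q₁)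
    (h₂ : IsPGroup q Q₂) (hA₁ : A ≤ normalizer (Q₁ : Set G)) (hA₂ : A ≤ normalizer (Q₂ : Set G))
    (hD₁ : Q₁ ⊓ Q₂ ≠ Q₁) (hD₂ : Q₁ ⊓ Q₂ ≠ Q₂) :
    ∃ a ∈ A, a ≠ 1 ∧
      ¬ normalizer ((Q₁ ⊓ Q₂ : Subgroup G) : Set G) ⊓ Q₁ ⊓ centralizer {a} ≤ Q₁ ⊓ Q₂ ∧
      ¬ normalizer ((Q₁ ⊓ Q₂ : Subgroup G) : Set G) ⊓ Q₂ ⊓ centralizer {a} ≤ Q₁ ⊓ Q₂ := by
  obtain ⟨A0, hA0, hcard⟩ := exists_subgroup_card_cube hA h3
  have hea := ea_mono hA hA0
  have hnorm : A0 ≤ normalizer ((normalizer ((Q₁ ⊓ Q₂ : Subgroup G) : Set G) : Subgroup G) : Set G) :=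
    (hA0.trans (le_normalizer_inf hA₁ hA₂)).trans le_normalizer
  have hcop : ∀ N : Subgroup G, IsPGroup q N → ¬ p ∣ Nat.card N := by
    intro N hN
    obtain ⟨k, hk⟩ := hN.exists_card_eq
    rw [hk]
    exact fun hd => hqp ((Nat.prime_dvd_prime_iff_eq hp.out Fact.out).1 (hp.out.dvd_of_dvd_pow hd)).symm
  obtain ⟨B1, hB1, c1, n1⟩ := exists_card_sq_not_le hea hcard
    (le_normalizer_inf hnorm (hA0.trans hA₁)) (hcop _ (h₁.to_le inf_le_right))
    (normalizer_inf_not_le h₁ inf_le_left hD₁)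
  obtain ⟨B2, hB2, c2, n2⟩ := exists_card_sq_not_le hea hcard
    (le_normalizer_inf hnorm (hA0.trans hA₂)) (hcop _ (h₂.to_le inf_le_right))
    (normalizer_inf_not_le h₂ inf_le_right hD₂)
  obtain ⟨a, ha1, ha2, hne⟩ := exists_mem_inf_ne_one hea hcard hB1 hB2 c1 c2
  refine ⟨a, hA0 (hB1 ha1), hne, fun h => n1 (le_trans ?_ h), fun h => n2 (le_trans ?_ h)⟩
  · exact inf_le_inf_left _ (centralizer_le (by simpa using ha1))
  · exact inf_le_inf_left _ (centralizer_le (by simpa using ha2))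

/-- Elements of `θ(C(A))` permute the members of the family. -/
theorem conj_mem_family (hA : IsElementaryAbelian p A) (hθ : IsSolvableSignalizerFunctor p A θ)
    {c : G} (hc : c ∈ signalizerInf A θ) {U : Subgroup G} (hU : U ∈ signalizerFamily p A θ) :
    U.map (MulAut.conj c).toMonoidHom ∈ signalizerFamily p A θ := by
  have hcA : ∀ a ∈ A, a * c = c * a := fun a ha =>
    mem_centralizer_iff.1 (signalizerInf_le_centralizer hθ.1 le_rfl hc) a ha
  refine ⟨?_, ?_, ?_, fun a ha ha1 => ?_⟩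
  · haveI := hU.1
    exact Group.isSolvable_of_surjective
      (f := (MulAut.conj c).toMonoidHom.subgroupMap U) (MonoidHom.subgroupMap_surjective _ U)
  · rw [card_map_of_injective (MulAut.conj c).injective]
    exact hU.2.1
  · rintro b hb _ ⟨u, hu, rfl⟩
    refine ⟨b * u * b⁻¹, hU.2.2.1 b hb u hu, ?_⟩
    show c * (b * u * b⁻¹) * c⁻¹ = b * (c * u * c⁻¹) * b⁻¹
    have hbc : b⁻¹ * c⁻¹ = c⁻¹ * b⁻¹ := by rw [← mul_inv_rev, ← mul_inv_rev, hcA b hb]
    calc c * (b * u * b⁻¹) * c⁻¹ = (c * b) * u * (b⁻¹ * c⁻¹) := by group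
      _ = (b * c) * u * (c⁻¹ * b⁻¹) := by rw [hcA b hb, hbc]
      _ = b * (c * u * c⁻¹) * b⁻¹ := by group
  · rintro _ ⟨⟨u, hu, rfl⟩, hua⟩
    have hca : c ∈ θ a :=
      (iInf_le (fun x : {x : G // x ∈ A ∧ x ≠ 1} => θ (x : G)) ⟨a, ha, ha1⟩) hc
    have hmem : u ∈ U ⊓ centralizer {a} := by
      refine ⟨hu, mem_centralizer_singleton_iff.2 ?_⟩
      have h1 : c * u * c⁻¹ * a = a * (c * u * c⁻¹) :=
        mem_centralizer_singleton_iff.1 hua
      have h2 : c⁻¹ * a = a * c⁻¹ := by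
        rw [inv_mul_eq_iff_eq_mul, ← mul_assoc, ← hcA a ha, mul_inv_cancel_right]
      calc u * a = c⁻¹ * (c * u * c⁻¹ * a) * c := by
            rw [mul_assoc, mul_assoc (c * u * c⁻¹), hcA a ha]; group
        _ = c⁻¹ * (a * (c * u * c⁻¹)) * c := by rw [h1]
        _ = (c⁻¹ * a) * (c * u) := by group
        _ = (a * c⁻¹) * (c * u) := by rw [h2]
        _ = a * u := by group
    exact mul_mem (mul_mem hca (hU.2.2.2 a ha ha1 hmem)) (inv_mem hca)

/-- `Q` is maximal among the `q`-subgroups in the family. -/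
def IsMaxMember (p q : ℕ) (A : Subgroup G) (θ : G → Subgroup G) (Q : Subgroup G) : Prop :=
  Q ∈ signalizerFamily p A θ ∧ IsPGroup q Q ∧
    ∀ R ∈ signalizerFamily p A θ, IsPGroup q R → Q ≤ R → R = Q

omit hp in
theorem exists_maxMember_ge {q : ℕ} {U : Subgroup G} (hU : U ∈ signalizerFamily p A θ)
    (hq : IsPGroup q U) : ∃ Q, U ≤ Q ∧ IsMaxMember p q A θ Q := by
  obtain ⟨Q, hle, ⟨h1, h2⟩, hmax⟩ := Finite.exists_le_maximal
    (p := fun R : Subgroup G => R ∈ signalizerFamily p A θ ∧ IsPGroup q R) ⟨hU, hq⟩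
  exact ⟨Q, hle, h1, h2, fun R hR hRq hQR => le_antisymm (hmax ⟨hR, hRq⟩ hQR) hQR⟩

theorem conj_maxMember (hA : IsElementaryAbelian p A) (hθ : IsSolvableSignalizerFunctor p A θ)
    {q : ℕ} {c : G} (hc : c ∈ signalizerInf A θ) {Q : Subgroup G}
    (hQ : IsMaxMember p q A θ Q) : IsMaxMember p q A θ (Q.map (MulAut.conj c).toMonoidHom) := by
  refine ⟨conj_mem_family hA hθ hc hQ.1, hQ.2.1.map _, fun R hR hRq hle => ?_⟩
  have h := hQ.2.2 _ (conj_mem_family hA hθ (inv_mem hc) hR) (hRq.map _) (fun x hx => ?_)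
  · rw [← h, Subgroup.map_map]
    ext x
    constructor
    · intro hx
      exact ⟨x, hx, by simp [mul_assoc]⟩
    · rintro ⟨y, hy, rfl⟩
      simpa [mul_assoc] using hy
  · exact ⟨c * x * c⁻¹, hle ⟨x, hx, rfl⟩, by simp [mul_assoc]⟩

theorem transitivity (hA : IsElementaryAbelian p A) (h3 : p ^ 3 ≤ Nat.card A)
    (hθ : IsSolvableSignalizerFunctor p A θ) {q : ℕ} [Fact q.Prime] (hqp : q ≠ p)
    {Q₁ Q₂ : Subgroup G} (h₁ : IsMaxMember p q A θ Q₁) (h₂ : IsMaxMember p q A θ Q₂) :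
    ∃ c ∈ signalizerInf A θ, Q₁.map (MulAut.conj c).toMonoidHom = Q₂ := by
  let D₀ := fun P : Subgroup G × Subgroup G => Nat.card ↥(P.1 ⊓ P.2)
  suffices key : ∀ (n : ℕ) (Q₁ Q₂ : Subgroup G), IsMaxMember p q A θ Q₁ → IsMaxMember p q A θ Q₂ →
      Nat.card G - Nat.card ↥(Q₁ ⊓ Q₂) = n →
      ∃ c ∈ signalizerInf A θ, Q₁.map (MulAut.conj c).toMonoidHom = Q₂ from
    key _ Q₁ Q₂ h₁ h₂ rfl
  intro n
  induction n using Nat.strong_induction_on with
  | _ n ih =>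
    intro Q₁ Q₂ h₁ h₂ hn
    by_cases e1 : Q₁ ⊓ Q₂ = Q₁
    · refine ⟨1, one_mem _, ?_⟩
      rw [h₁.2.2 Q₂ h₂.1 h₂.2.1 (inf_eq_left.1 e1)]
      ext x; simp
    by_cases e2 : Q₁ ⊓ Q₂ = Q₂
    · refine ⟨1, one_mem _, ?_⟩
      rw [← h₂.2.2 Q₁ h₁.1 h₁.2.1 (inf_eq_right.1 e2)]
      ext x; simp
    obtain ⟨a, ha, ha1, hn1, hn2⟩ := exists_common_centralized hA h3 hqp h₁.2.1 h₂.2.1
      (family_normalizer h₁.1) (family_normalizer h₂.1) e1 e2
    set D := Q₁ ⊓ Q₂ with hD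
    have hAD : A ≤ normalizer (D : Set G) :=
      le_normalizer_inf (family_normalizer h₁.1) (family_normalizer h₂.1)
    set T := θ a ⊓ normalizer (D : Set G) with hT
    have hAN : A ≤ normalizer ((normalizer (D : Set G) : Subgroup G) : Set G) := hAD.trans le_normalizer
    have hAT : A ≤ normalizer (T : Set G) := le_normalizer_inf (functor_normalizer hθ.1 ha ha1) hAN
    have hTfam : T ∈ signalizerFamily p A θ := family_mono (functor_mem_family hθ ha ha1) inf_le_left hAT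
    have hcop := coprime_card (ea_isPGroup hA) hTfam.2.1
    have hAa : A ≤ normalizer ((centralizer ({a} : Set G) : Subgroup G) : Set G) :=
      le_normalizer_of_le_centralizer (ea_le_centralizer_singleton hA ha)
    have hU : ∀ Q : Subgroup G, IsMaxMember p q A θ Q →
        ∃ S : Sylow q T, normalizer (D : Set G) ⊓ Q ⊓ centralizer {a} ≤ (S : Subgroup T).map T.subtype ∧
          A ≤ normalizer (((S : Subgroup T).map T.subtype : Subgroup G) : Set G) := by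
      intro Q hQ
      refine CoprimeAct.exists_invariant_sylow_ge hAT hcop (Or.inr hTfam.1) ?_
        (hQ.2.1.to_le (inf_le_left.trans inf_le_right))
        (le_normalizer_inf (le_normalizer_inf hAN (family_normalizer hQ.1)) hAa)
      exact le_inf (fun x hx => hQ.1.2.2.2 a ha ha1 ⟨hx.1.2, hx.2⟩) (inf_le_left.trans inf_le_left)
    obtain ⟨S₁, hS₁, hS₁A⟩ := hU Q₁ h₁
    obtain ⟨S₂, hS₂, hS₂A⟩ := hU Q₂ h₂
    obtain ⟨c, hcA, hc⟩ := CoprimeAct.invariant_sylow_conj hAT hcop (Or.inr hTfam.1) S₁ S₂ hS₁A hS₂A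
    have hcInf : (c : G) ∈ signalizerInf A θ :=
      family_inf_centralizer_le hTfam le_rfl ⟨c.2, hcA⟩
    set S := (S₁ : Subgroup T).map T.subtype with hS
    have hST : S ≤ T := map_subtype_le _
    have hSfam : S ∈ signalizerFamily p A θ := family_mono hTfam hST hS₁A
    have hDfam : D ∈ signalizerFamily p A θ := family_mono h₁.1 inf_le_left hAD
    have hSD : S ≤ normalizer (D : Set G) := hST.trans inf_le_right
    have hDS := sup_mem_family hA hDfam hSfam hSD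
    have hDSq : IsPGroup q ↥(D ⊔ S) := by
      refine IsPGroup.to_sup_of_normal_left' (h₁.2.1.to_le inf_le_left) (S₁.isPGroup'.map _) hSD
    obtain ⟨R, hR, hRmax⟩ := exists_maxMember_ge hDS hDSq
    have hless : ∀ (Q R : Subgroup G), D ≤ Q → D ≤ R → ¬ R ⊓ Q ≤ D →
        Nat.card G - Nat.card ↥(R ⊓ Q) < n := by
      intro Q R hDQ hDR hnle
      have hlt : D < R ⊓ Q := lt_of_le_not_ge (le_inf hDR hDQ) hnle
      have h1 : Nat.card ↥D < Nat.card ↥(R ⊓ Q) := by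
        refine lt_of_le_of_ne (card_le_of_le hlt.le) fun e => hlt.ne ?_
        exact eq_of_le_of_card_ge hlt.le e.ge
      have h2 := card_le_card_group (H := R ⊓ Q)
      omega
    obtain ⟨c₁, hc₁, hc₁eq⟩ := ih _ (hless Q₁ R inf_le_left (le_sup_left.trans hR) fun h => hn1
      (le_trans (le_inf ((hS₁.trans le_sup_right).trans hR) (inf_le_left.trans inf_le_right)) h))
      R Q₁ hRmax h₁ rfl
    have hmapS : S.map (MulAut.conj (c : G)).toMonoidHom = (S₂ : Subgroup T).map T.subtype := by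
      rw [← hc, hS]
      ext x
      constructor
      · rintro ⟨y, ⟨s, hs, rfl⟩, rfl⟩
        exact ⟨c * s * c⁻¹, ⟨s, hs, rfl⟩, rfl⟩
      · rintro ⟨y, ⟨s, hs, rfl⟩, rfl⟩
        exact ⟨(s : G), ⟨s, hs, rfl⟩, rfl⟩
    set R' := R.map (MulAut.conj (c : G)).toMonoidHom with hR'
    have hDR' : D ≤ R' := by
      rw [← mem_normalizer_iff_map_conj_eq.1 (hST.trans inf_le_right |> fun _ => c.2.2)]
      exact map_mono (le_sup_left.trans hR)
    obtain ⟨c₂, hc₂, hc₂eq⟩ := ih _ (hless Q₂ R' inf_le_right hDR' fun h => hn2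
      (le_trans (le_inf ((hS₂.trans hmapS.ge).trans (map_mono (le_sup_right.trans hR)))
        (inf_le_left.trans inf_le_right)) h))
      R' Q₂ (conj_maxMember hA hθ hcInf hRmax) h₂ rfl
    refine ⟨c₂ * c * c₁⁻¹, mul_mem (mul_mem hc₂ hcInf) (inv_mem hc₁), ?_⟩
    rw [← hc₁eq, ← hc₂eq, hR', Subgroup.map_map, Subgroup.map_map]
    congr 1
    ext x
    simp [mul_assoc]

end Cfsg.Agent.Signalizer
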