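import Cfsg.Agent.Lib.Signalizer.Basic
import Mathlib.GroupTheory.Solvable

/-!
A coherent family of centralizer pieces inside a solvable coprime group is complete: the subgroup
they generate has exactly these centralizers.
-/

set_option autoImplicit false
set_option linter.style.haveILetI false

namespace Cfsg.Agent.Signalizer

open Subgroup
open scoped Pointwise commutatorElement

variable {G : Type*} [Group G] [Finite G] {I : Type*}

theorem complete_of_coherent {A K : Subgroup G} (hKs : Group.IsSolvable K)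
    (hcop : (Nat.card A).Coprime (Nat.card K)) (E : I → Subgroup G) (Y : I → Subgroup G)
    (hE : ∀ i, E i ≤ A) (hYK : ∀ i, Y i ≤ K) (hYA : ∀ i, A ≤ normalizer (Y i : Set G))
    (hgen : ∀ X Z : Subgroup G, A ≤ normalizer (X : Set G) → X ≤ K →
      (∀ i, X ⊓ centralizer (E i : Set G) ≤ Z) → X ≤ Z)
    (hpair : ∀ i j, ∃ X : Subgroup G, X ≤ K ∧ A ≤ normalizer (X : Set G) ∧ Y i ≤ X ∧ Y j ≤ X ∧
      ∀ l, X ⊓ centralizer (E l : Set G) ≤ Y l) :
    ∀ i, (⨆ j, Y j) ⊓ centralizer (E i : Set G) ≤ Y i := by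
  classical
  set W := ⨆ j, Y j with hWdef
  have hWK : W ≤ K := iSup_le hYK
  have hWA : A ≤ normalizer (W : Set G) :=
    (le_iInf hYA).trans (iInf_normalizer_le_normalizer_iSup Y)
  haveI hWs : Group.IsSolvable W := by
    haveI := hKs
    exact Group.isSolvable_of_isSolvable_injective (Subgroup.inclusion_injective hWK)
  -- the derived series, in `G`
  let D : ℕ → Subgroup G := fun j => (derivedSeries W j).map W.subtype
  have hD0 : D 0 = W := by simp [D, ← MonoidHom.range_eq_map, W.range_subtype]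
  have hDs : ∀ j, D (j + 1) = ⁅D j, D j⁆ := fun j => by
    simp only [D, derivedSeries_succ, map_commutator]
  have hDle : ∀ j, D j ≤ W := fun j => map_subtype_le _
  have hDA : ∀ j, A ≤ normalizer (D j : Set G) := by
    intro j
    induction j with
    | zero => rwa [hD0]
    | succ j ih =>
      intro a ha
      rw [mem_normalizer_iff_map_conj_eq, hDs, map_commutator, mem_normalizer_iff_map_conj_eq.1 (ih ha)]
  have hDW : ∀ j, W ≤ normalizer (D j : Set G) := by
    intro j
    induction j with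
    | zero => rw [hD0]; exact le_normalizer
    | succ j ih =>
      intro a ha
      rw [mem_normalizer_iff_map_conj_eq, hDs, map_commutator, mem_normalizer_iff_map_conj_eq.1 (ih ha)]
  obtain ⟨n₀, hn₀⟩ : ∃ n, D n = ⊥ := by
    obtain ⟨n, hn⟩ := hWs.solvable
    exact ⟨n, by simp [D, hn]⟩
  -- the induction: good normal subgroups grow
  suffices h : ∀ m : ℕ, ∀ N : Subgroup G, N ≤ W → W ≤ normalizer (N : Set G) →
      A ≤ normalizer (N : Set G) → (∀ i, N ⊓ centralizer (E i : Set G) ≤ Y i) →
      Nat.card W ≤ Nat.card N + m → ∀ i, W ⊓ centralizer (E i : Set G) ≤ Y i by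
    refine h (Nat.card W) ⊥ bot_le ?_ ?_ (fun i => by simp) (Nat.le_add_left _ _) <;>
      exact le_normalizer_of_normal
  intro m
  induction m with
  | zero =>
    intro N hN _ _ hgood hcard
    rwa [eq_of_le_of_card_ge hN hcard] at hgood
  | succ m ih =>
    intro N hN hNW hNA hgood hcard
    by_cases hNeq : N = W
    · rwa [hNeq] at hgood
    have hex : ∃ j, ∀ i, (D j ⊔ N) ⊓ Y i ≤ N := ⟨n₀, fun i => by simp [hn₀]⟩
    let j := Nat.find hex
    have hj : ∀ i, (D j ⊔ N) ⊓ Y i ≤ N := Nat.find_spec hex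
    have hjpos : j ≠ 0 := fun h0 => by
      rw [h0, hD0] at hj
      refine hNeq (le_antisymm hN (iSup_le fun i => ?_))
      exact le_trans (le_inf (le_sup_of_le_left (le_iSup Y i)) le_rfl) (hj i)
    obtain ⟨j', hj'⟩ := Nat.exists_eq_succ_of_ne_zero hjpos
    have hnot : ¬ ∀ i, (D j' ⊔ N) ⊓ Y i ≤ N := Nat.find_min hex (by omega : j' < j)
    simp only [not_forall] at hnot
    obtain ⟨i₀, hi₀⟩ := hnot
    rw [hj'] at hj
    let L1 := D j' ⊔ N
    let L2 := D (j' + 1) ⊔ N
    have hL1W : L1 ≤ W := sup_le (hDle _) hN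
    have hL2W : L2 ≤ W := sup_le (hDle _) hN
    have hL1n : W ≤ normalizer (L1 : Set G) :=
      (le_inf (hDW _) hNW).trans (normalizer_inf_normalizer_le_normalizer_sup _ _)
    have hL1A : A ≤ normalizer (L1 : Set G) :=
      (le_inf (hDA _) hNA).trans (normalizer_inf_normalizer_le_normalizer_sup _ _)
    have hL2A : A ≤ normalizer (L2 : Set G) :=
      (le_inf (hDA _) hNA).trans (normalizer_inf_normalizer_le_normalizer_sup _ _)
    let N' := N ⊔ ⨆ i, L1 ⊓ Y i
    have hN'W : N' ≤ W := sup_le hN (iSup_le fun i => inf_le_left.trans hL1W)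
    have hN'A : A ≤ normalizer (N' : Set G) := by
      refine (le_inf hNA ?_).trans (normalizer_inf_normalizer_le_normalizer_sup _ _)
      exact (le_iInf fun i => (le_inf hL1A (hYA i)).trans inf_normalizer_le_normalizer_inf).trans
        (iInf_normalizer_le_normalizer_iSup _)
    -- pieces of a member `X` lie in the generated subgroup
    have hXL : ∀ (L : Subgroup G), A ≤ normalizer (L : Set G) → ∀ X : Subgroup G, X ≤ K →
        A ≤ normalizer (X : Set G) → (∀ l, X ⊓ centralizer (E l : Set G) ≤ Y l) →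
        X ⊓ L ≤ N ⊔ ⨆ i, L ⊓ Y i := by
      intro L hL X hXK hXA hX
      refine hgen _ _ ((le_inf hXA hL).trans inf_normalizer_le_normalizer_inf)
        (inf_le_left.trans hXK) fun l => ?_
      exact le_sup_of_le_right (le_trans
        (le_inf (inf_le_left.trans inf_le_right) ((inf_le_inf_right _ inf_le_left).trans (hX l)))
        (le_iSup (fun i => L ⊓ Y i) l))
    have hL2N : ∀ X : Subgroup G, X ≤ K → A ≤ normalizer (X : Set G) →
        (∀ l, X ⊓ centralizer (E l : Set G) ≤ Y l) → X ⊓ L2 ≤ N := fun X h1 h2 h3 =>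
      (hXL L2 hL2A X h1 h2 h3).trans (sup_le le_rfl (iSup_le hj))
    have hN'n : W ≤ normalizer (N' : Set G) := by
      refine iSup_le fun l y hy => ?_
      refine mem_normalizer_fintype fun z hz => ?_
      suffices hle : N' ≤ N'.comap (MulAut.conj y).toMonoidHom from hle hz
      refine sup_le (fun z hz => ?_) (iSup_le fun i z hz => ?_)
      · exact le_sup_left (a := N) ((mem_normalizer_iff.1 (hNW (le_iSup Y l hy)) z).1 hz)
      · obtain ⟨X, hXK, hXA, hiX, hlX, hX⟩ := hpair i l
        exact hXL L1 hL1A X hXK hXA hX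
          ⟨X.mul_mem (X.mul_mem (hlX hy) (hiX hz.2)) (X.inv_mem (hlX hy)),
            (mem_normalizer_iff.1 (hL1n (le_iSup Y l hy)) z).1 hz.1⟩
    have hlt : Nat.card N < Nat.card N' := by
      refine lt_of_le_of_ne (card_le_of_le le_sup_left) fun heq => hi₀ ?_
      have : N = N' := eq_of_le_of_card_ge le_sup_left heq.ge
      calc L1 ⊓ Y i₀ ≤ N' := le_sup_of_le_right (le_iSup (fun i => L1 ⊓ Y i) i₀)
        _ = N := this.symm
    refine ih N' hN'W hN'n hN'A (fun i k hk => ?_) (by omega)
    -- averaging in the abelian section `N' / N`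
    haveI hNn : (N.subgroupOf N').Normal :=
      (normal_subgroupOf_iff_le_normalizer le_sup_left).2 (hN'W.trans hNW)
    let f := QuotientGroup.mk' (N.subgroupOf N')
    haveI hWL2 : (L2.subgroupOf W).Normal := (normal_subgroupOf_iff_le_normalizer hL2W).2
      ((le_inf (hDW _) hNW).trans (normalizer_inf_normalizer_le_normalizer_sup _ _))
    have hL1comm : ∀ a ∈ L1, ∀ b ∈ L1, ⁅a, b⁆ ∈ L2 := by
      let g := QuotientGroup.mk' (L2.subgroupOf W)
      have hDd : ∀ a : W, (a : G) ∈ L1 → ∃ d : W, (d : G) ∈ D j' ∧ g a = g d := by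
        intro a ha
        have ha' : (a : G) ∈ ((D j' ⊔ N : Subgroup G) : Set G) := ha
        rw [coe_mul_of_left_le_normalizer_right (D j') N ((hDle _).trans hNW)] at ha'
        obtain ⟨d, hd, n, hn, hdn⟩ := ha'
        refine ⟨⟨d, hDle _ hd⟩, hd, ?_⟩
        rw [show a = (⟨d, hDle _ hd⟩ : W) * ⟨n, hN hn⟩ from Subtype.ext hdn.symm, map_mul,
          show g ⟨n, hN hn⟩ = 1 from (QuotientGroup.eq_one_iff _).2 (mem_sup_right hn : n ∈ L2), mul_one]
      intro a ha b hb
      obtain ⟨d, hd, hgd⟩ := hDd ⟨a, hL1W ha⟩ ha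
      obtain ⟨e, he, hge⟩ := hDd ⟨b, hL1W hb⟩ hb
      have h1 : g ⁅(⟨a, hL1W ha⟩ : W), ⟨b, hL1W hb⟩⁆ = 1 := by
        rw [map_commutatorElement, hgd, hge, ← map_commutatorElement]
        refine (QuotientGroup.eq_one_iff _).2 (mem_sup_left (S := D (j' + 1)) (T := N) ?_)
        rw [hDs]
        simpa [commutatorElement_def] using commutator_mem_commutator hd he
      have h2 : ((⁅(⟨a, hL1W ha⟩ : W), ⟨b, hL1W hb⟩⁆ : W) : G) ∈ L2 := (QuotientGroup.eq_one_iff (N := L2.subgroupOf W) _).1 h1
      simpa [commutatorElement_def] using h2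
    let Gn : Subgroup N' := ⨆ l, (L1 ⊓ Y l).subgroupOf N'
    have hGntop : ∀ z : N', ∃ w ∈ Gn, f z = f w := by
      intro z
      have hnorm : (⨆ l, L1 ⊓ Y l) ≤ normalizer (N : Set G) :=
        (iSup_le fun l => inf_le_left.trans hL1W).trans hNW
      have hz : (z : G) ∈ ((N ⊔ ⨆ l, L1 ⊓ Y l : Subgroup G) : Set G) := z.2
      rw [coe_mul_of_right_le_normalizer_left _ _ hnorm] at hz
      obtain ⟨n, hn, w, hw, hnw⟩ := hz
      have hwm : (⟨w, mem_sup_right hw⟩ : N') ∈ Gn := by
        have hle : (⨆ l, L1 ⊓ Y l) ≤ Gn.map N'.subtype := iSup_le fun l y hy =>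
          ⟨⟨y, mem_sup_right (le_iSup (fun i => L1 ⊓ Y i) l hy)⟩,
            le_iSup (fun l => (L1 ⊓ Y l).subgroupOf N') l hy, rfl⟩
        obtain ⟨w', hw', hww'⟩ := hle hw
        rwa [show (⟨w, mem_sup_right hw⟩ : N') = w' from Subtype.ext hww'.symm]
      refine ⟨_, hwm, ?_⟩
      rw [show z = (⟨n, mem_sup_left hn⟩ : N') * ⟨w, mem_sup_right hw⟩ from Subtype.ext hnw.symm, map_mul,
        show f ⟨n, mem_sup_left hn⟩ = 1 from (QuotientGroup.eq_one_iff _).2 hn, one_mul]
    have hcomm : ∀ a b : N', f a * f b = f b * f a := by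
      have hgc : ∀ l l', (L1 ⊓ Y l).subgroupOf N' ≤
          (centralizer ((((L1 ⊓ Y l').subgroupOf N').map f : Subgroup _) : Set _)).comap f := by
        intro l l' a ha
        rw [mem_comap, mem_centralizer_iff]
        rintro _ ⟨b, hb, rfl⟩
        rw [← commutatorElement_eq_one_iff_mul_comm, ← map_commutatorElement]
        refine (QuotientGroup.eq_one_iff _).2 ?_
        obtain ⟨X, hXK, hXA, hlX, hl'X, hX⟩ := hpair l l'
        refine hL2N X hXK hXA hX ⟨?_, ?_⟩
        · have := X.mul_mem (X.mul_mem (X.mul_mem (hl'X hb.2) (hlX ha.2)) (X.inv_mem (hl'X hb.2)))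
            (X.inv_mem (hlX ha.2))
          simpa [commutatorElement_def] using this
        · simpa [commutatorElement_def] using hL1comm _ hb.1 _ ha.1
      intro a b
      obtain ⟨a', ha', rfl'⟩ := hGntop a
      obtain ⟨b', hb', rfl''⟩ := hGntop b
      rw [rfl', rfl'']
      have h1 : Gn.map f ≤ centralizer ((Gn.map f : Subgroup _) : Set _) := by
        rw [Subgroup.map_iSup]
        refine iSup_le fun l => ?_
        rw [← commutator_eq_bot_iff_le_centralizer, commutator_comm, commutator_eq_bot_iff_le_centralizer]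
        refine iSup_le fun l' => ?_
        rw [map_le_iff_le_comap]
        exact hgc l' l
      exact mem_centralizer_iff.1 (h1 ⟨b', hb', rfl⟩) _ ⟨a', ha', rfl⟩
    letI : CommGroup (↥N' ⧸ N.subgroupOf N') :=
      { mul_comm := fun a b => by
          obtain ⟨a, rfl⟩ := QuotientGroup.mk'_surjective _ a
          obtain ⟨b, rfl⟩ := QuotientGroup.mk'_surjective _ b
          exact hcomm a b }
    have hEN' : E i ≤ normalizer (N' : Set G) := (hE i).trans hN'A
    let c : E i →* MulAut N' := N'.normalizerMonoidHom.comp (inclusion hEN')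
    have hc : ∀ (e : E i) (z : N'), ((c e z : N') : G) = (e : G) * z * (e : G)⁻¹ := fun e z => rfl
    have hcN : ∀ e : E i, N.subgroupOf N' ≤ (N.subgroupOf N').comap (c e).toMonoidHom := by
      intro e z hz
      show ((c e z : N') : G) ∈ N
      rw [hc]
      exact (mem_normalizer_iff.1 ((hE i).trans hNA e.2) _).1 hz
    let Φ : E i → (↥N' ⧸ N.subgroupOf N') →* (↥N' ⧸ N.subgroupOf N') := fun e =>
      QuotientGroup.map _ _ (c e).toMonoidHom (hcN e)
    have hΦ : ∀ e z, Φ e (f z) = f (c e z) := fun e z => rfl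
    letI := Fintype.ofFinite (E i)
    let T : N' →* (↥N' ⧸ N.subgroupOf N') := ∏ e : E i, (f.comp (c e).toMonoidHom)
    have hT : ∀ z, T z = ∏ e : E i, f (c e z) := fun z => by simp [T, MonoidHom.finset_prod_apply]
    let U : Subgroup N' := (N ⊔ N' ⊓ Y i).subgroupOf N'
    have hTU : ∀ z, T z ∈ U.map f := by
      intro z
      suffices h : Gn ≤ (U.map f).comap T by
        obtain ⟨w, hw, hzw⟩ := hGntop z
        have hTzw : T z = T w := by
          rw [hT, hT]
          exact Finset.prod_congr rfl fun e _ => by rw [← hΦ, ← hΦ, hzw]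
        rw [hTzw]
        exact h hw
      refine iSup_le fun l u hu => ?_
      rw [mem_comap]
      -- an element fixed modulo `N`
      let V := (L1 ⊓ Y l).subgroupOf N'
      have hVc : ∀ e : E i, ∀ v ∈ V, c e v ∈ V := by
        intro e v hv
        show ((c e v : N') : G) ∈ L1 ⊓ Y l
        rw [hc]
        exact ⟨(mem_normalizer_iff.1 (hL1A (hE i e.2)) _).1 hv.1,
          (mem_normalizer_iff.1 (hYA l (hE i e.2)) _).1 hv.2⟩
      obtain ⟨u', hu', hu'T⟩ : T u ∈ V.map f := by
        rw [hT]
        exact Subgroup.prod_mem _ fun e _ => mem_map_of_mem f (hVc e u hu)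
      have hfix : ∀ e : E i, f (c e u') = f u' := by
        intro e
        rw [← hΦ, hu'T, hT, map_prod]
        refine Fintype.prod_equiv (Equiv.mulLeft e) _ _ fun x => ?_
        rw [hΦ, Equiv.coe_mulLeft, map_mul]
        rfl
      obtain ⟨w, hw, hwu⟩ := CoprimeAct.exists_mem_centralizer (A := E i) (K := L1 ⊓ Y l)
        (((hE i).trans (le_inf hL1A (hYA l))).trans inf_normalizer_le_normalizer_inf)
        ((hcop.coprime_dvd_left (card_dvd_of_le (hE i))).coprime_dvd_right
          (card_dvd_of_le (inf_le_right.trans (hYK l))))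
        (Or.inr (by
          haveI := hKs
          exact Group.isSolvable_of_isSolvable_injective
            (Subgroup.inclusion_injective (inf_le_right.trans (hYK l) : L1 ⊓ Y l ≤ K))))
        (N := N ⊓ (L1 ⊓ Y l)) inf_le_right
        ((le_inf ((inf_le_left.trans hL1W).trans hNW) le_normalizer).trans inf_normalizer_le_normalizer_inf)
        (((hE i).trans (le_inf hNA ((le_inf hL1A (hYA l)).trans inf_normalizer_le_normalizer_inf))).trans
          inf_normalizer_le_normalizer_inf)
        (k := (u' : G)) hu' (fun e he => by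
          have h := hfix ⟨e, he⟩
          refine ⟨?_, mul_mem ?_ (Subgroup.inv_mem _ hu')⟩
          · have h2 : (c ⟨e, he⟩ u') * u'⁻¹ ∈ N.subgroupOf N' := (QuotientGroup.eq_one_iff _).1 (by
              show f _ = 1
              rw [map_mul, map_inv, h, mul_inv_cancel])
            simpa [mem_subgroupOf, hc] using h2
          · have := hVc ⟨e, he⟩ u' hu'
            simpa [V, mem_subgroupOf, hc] using this)
      obtain ⟨X, hXK, hXA, hlX, -, hX⟩ := hpair l l
      have hwY : w ∈ Y i := hX i ⟨hlX hw.1.2, hw.2⟩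
      have hwN' : w ∈ N' := mem_sup_right (le_iSup (fun i => L1 ⊓ Y i) l hw.1)
      refine ⟨⟨w, hwN'⟩, mem_sup_right (⟨hwN', hwY⟩ : w ∈ N' ⊓ Y i), ?_⟩
      rw [← hu'T]
      exact (QuotientGroup.eq.2 (show u'⁻¹ * (⟨w, hwN'⟩ : N') ∈ N.subgroupOf N' from hwu.1)).symm
    obtain ⟨hkN', hkC⟩ := hk
    let k' : N' := ⟨k, hkN'⟩
    have hTk : T k' = f k' ^ Fintype.card (E i) := by
      rw [hT, Finset.prod_congr rfl (g := fun _ => f k') fun e _ => ?_, Finset.prod_const, Finset.card_univ]
      congr 1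
      refine Subtype.ext ?_
      rw [hc, mem_centralizer_iff.1 hkC e e.2, mul_inv_cancel_right]
    have hkU : f k' ∈ U.map f := by
      obtain ⟨r, hr⟩ := exists_pow_eq_self_of_coprime (x := f k') (n := Fintype.card (E i)) (by
        rw [← Nat.card_eq_fintype_card]
        refine Nat.Coprime.coprime_dvd_right ((orderOf_map_dvd f k').trans (orderOf_dvd_natCard k')) ?_
        exact (hcop.coprime_dvd_left (card_dvd_of_le (hE i))).coprime_dvd_right
          (card_dvd_of_le (hN'W.trans hWK)))
      rw [← hr, ← hTk]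
      exact pow_mem (hTU k') r
    obtain ⟨u, hu, huk⟩ := hkU
    have hkmem : k ∈ N ⊔ N' ⊓ Y i := by
      have h2 : u⁻¹ * k' ∈ N.subgroupOf N' := QuotientGroup.eq.1 huk
      have := (N ⊔ N' ⊓ Y i).mul_mem (mem_subgroupOf.1 hu) (mem_sup_left (T := N' ⊓ Y i) h2)
      simpa [k'] using this
    have hmul : k ∈ ((N ⊔ N' ⊓ Y i : Subgroup G) : Set G) := hkmem
    rw [coe_mul_of_right_le_normalizer_left N (N' ⊓ Y i)
      ((inf_le_right.trans (le_iSup Y i)).trans hNW)] at hmul
    obtain ⟨n, hn, y, hy, hny⟩ := hmul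
    obtain ⟨X, hXK, hXA, hiX, -, hX⟩ := hpair i i
    by_cases hyC : y ∈ centralizer (E i : Set G)
    · have hnC : n ∈ centralizer (E i : Set G) := by
        rw [show n = k * y⁻¹ by rw [← hny]; group]
        exact mul_mem hkC (inv_mem hyC)
      rw [← hny]
      exact mul_mem (hgood i ⟨hn, hnC⟩) hy.2
    · -- `y` is fixed modulo `N ∩ Y i`, so can be corrected
      obtain ⟨w, hw, hwy⟩ := CoprimeAct.exists_mem_centralizer (A := E i) (K := Y i)
        ((hE i).trans (hYA i))
        ((hcop.coprime_dvd_left (card_dvd_of_le (hE i))).coprime_dvd_right (card_dvd_of_le (hYK i)))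
        (Or.inr (by haveI := hKs; exact Group.isSolvable_of_isSolvable_injective (Subgroup.inclusion_injective (hYK i))))
        (N := N ⊓ Y i) inf_le_right
        ((le_inf ((le_iSup Y i).trans hNW) le_normalizer).trans inf_normalizer_le_normalizer_inf)
        (((hE i).trans (le_inf hNA (hYA i))).trans inf_normalizer_le_normalizer_inf)
        (k := y) hy.2 (fun e he => by
          have hye : e * y * e⁻¹ * y⁻¹ = (e * n * e⁻¹)⁻¹ * n := by
            have hek : e * k * e⁻¹ = k := by rw [mem_centralizer_iff.1 hkC e he, mul_inv_cancel_right]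
            have h1 : (e * n * e⁻¹) * (e * y * e⁻¹) = n * y := by
              calc (e * n * e⁻¹) * (e * y * e⁻¹) = e * (n * y) * e⁻¹ := by group
                _ = n * y := by rw [show n * y = k from hny, hek]
            calc e * y * e⁻¹ * y⁻¹ = (e * n * e⁻¹)⁻¹ * ((e * n * e⁻¹) * (e * y * e⁻¹)) * y⁻¹ := by group
              _ = _ := by rw [h1]; group
          refine ⟨?_, mul_mem ((mem_normalizer_iff.1 (hYA i (hE i he)) _).1 hy.2) (Subgroup.inv_mem _ hy.2)⟩
          rw [hye]
          exact N.mul_mem (N.inv_mem ((mem_normalizer_iff.1 (hNA (hE i he)) _).1 hn)) hn)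
      have hnw : n * (y * w⁻¹) ∈ N ⊓ centralizer (E i : Set G) := by
        refine ⟨N.mul_mem hn ?_, ?_⟩
        · have h3 : y⁻¹ * w ∈ N := hwy.1
          have h4 := (mem_normalizer_iff.1 (hNW (le_iSup Y i hw.1)) _).1 (N.inv_mem h3)
          simpa [mul_assoc] using h4
        · rw [← mul_assoc, show n * y = k from hny]
          exact mul_mem hkC (Subgroup.inv_mem _ hw.2)
      have := mul_mem (hgood i hnw) hw.1
      rw [← hny]
      simpa [mul_assoc] using this

end Cfsg.Agent.Signalizer
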